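import Cfsg.Agent.Lib.ThreeTrans.CosetIndex.Fi14080.Data
import Cfsg.Agent.Lib.ThreeTrans.CosetIndex.Fi14080.Proofs

set_option autoImplicit false
set_option maxRecDepth 20000
set_option Elab.async false

/-!
Checks of the enumeration, part A (split from `Valid` so that the parts build side by side).
-/

namespace CfsgLib.ThreeTrans.CosetIndex.Fi14080

theorem steps0 : stepsOK data.facts data.rels data.subs stepList0 18855 = true := by decide +kernel

theorem len0 : stepList0.length = 1000 := by decide +kernel

theorem steps3 : stepsOK data.facts data.rels data.subs stepList3 21855 = true := by decide +kernel

theorem len3 : stepList3.length = 1000 := by decide +kernel

theorem steps6 : stepsOK data.facts data.rels data.subs stepList6 24855 = true := by decide +kernel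

theorem len6 : stepList6.length = 1000 := by decide +kernel

theorem steps9 : stepsOK data.facts data.rels data.subs stepList9 27855 = true := by decide +kernel

theorem len9 : stepList9.length = 1000 := by decide +kernel

theorem steps12 : stepsOK data.facts data.rels data.subs stepList12 30855 = true := by decide +kernel

theorem len12 : stepList12.length = 1000 := by decide +kernel

theorem steps15 : stepsOK data.facts data.rels data.subs stepList15 33855 = true := by decide +kernel

theorem len15 : stepList15.length = 1000 := by decide +kernel

theorem steps18 : stepsOK data.facts data.rels data.subs stepList18 36855 = true := by decide +kernel

theorem len18 : stepList18.length = 1000 := by decide +kernel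

theorem steps21 : stepsOK data.facts data.rels data.subs stepList21 39855 = true := by decide +kernel

theorem len21 : stepList21.length = 1000 := by decide +kernel

theorem steps24 : stepsOK data.facts data.rels data.subs stepList24 42855 = true := by decide +kernel

theorem len24 : stepList24.length = 1000 := by decide +kernel

theorem steps27 : stepsOK data.facts data.rels data.subs stepList27 45855 = true := by decide +kernel

theorem len27 : stepList27.length = 1000 := by decide +kernel

theorem steps30 : stepsOK data.facts data.rels data.subs stepList30 48855 = true := by decide +kernel

theorem len30 : stepList30.length = 1000 := by decide +kernel

theorem steps33 : stepsOK data.facts data.rels data.subs stepList33 51855 = true := by decide +kernel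

theorem len33 : stepList33.length = 1000 := by decide +kernel

theorem steps36 : stepsOK data.facts data.rels data.subs stepList36 54855 = true := by decide +kernel

theorem len36 : stepList36.length = 1000 := by decide +kernel

theorem steps39 : stepsOK data.facts data.rels data.subs stepList39 57855 = true := by decide +kernel

theorem len39 : stepList39.length = 1000 := by decide +kernel

theorem steps42 : stepsOK data.facts data.rels data.subs stepList42 60855 = true := by decide +kernel

theorem len42 : stepList42.length = 1000 := by decide +kernel

theorem steps45 : stepsOK data.facts data.rels data.subs stepList45 63855 = true := by decide +kernel

theorem len45 : stepList45.length = 1000 := by decide +kernel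

theorem steps48 : stepsOK data.facts data.rels data.subs stepList48 66855 = true := by decide +kernel

theorem len48 : stepList48.length = 1000 := by decide +kernel

theorem steps51 : stepsOK data.facts data.rels data.subs stepList51 69855 = true := by decide +kernel

theorem len51 : stepList51.length = 1000 := by decide +kernel

theorem steps54 : stepsOK data.facts data.rels data.subs stepList54 72855 = true := by decide +kernel

theorem len54 : stepList54.length = 1000 := by decide +kernel

theorem steps57 : stepsOK data.facts data.rels data.subs stepList57 75855 = true := by decide +kernel

theorem len57 : stepList57.length = 1000 := by decide +kernel

theorem steps60 : stepsOK data.facts data.rels data.subs stepList60 78855 = true := by decide +kernel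

theorem len60 : stepList60.length = 1000 := by decide +kernel

theorem steps63 : stepsOK data.facts data.rels data.subs stepList63 81855 = true := by decide +kernel

theorem len63 : stepList63.length = 1000 := by decide +kernel

theorem finals0 : data.finalsOK finalList0 0 = true := by decide +kernel

theorem flen0 : finalList0.length = 2000 := by decide +kernel

theorem finals3 : data.finalsOK finalList3 6000 = true := by decide +kernel

theorem flen3 : finalList3.length = 2000 := by decide +kernel

theorem finals6 : data.finalsOK finalList6 12000 = true := by decide +kernel

theorem flen6 : finalList6.length = 2000 := by decide +kernel

theorem finals9 : data.finalsOK finalList9 18000 = true := by decide +kernel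

theorem flen9 : finalList9.length = 2000 := by decide +kernel

theorem finals12 : data.finalsOK finalList12 24000 = true := by decide +kernel

theorem flen12 : finalList12.length = 2000 := by decide +kernel

theorem finals15 : data.finalsOK finalList15 30000 = true := by decide +kernel

theorem flen15 : finalList15.length = 2000 := by decide +kernel

theorem finals18 : data.finalsOK finalList18 36000 = true := by decide +kernel

theorem flen18 : finalList18.length = 2000 := by decide +kernel

theorem finals21 : data.finalsOK finalList21 42000 = true := by decide +kernel

theorem flen21 : finalList21.length = 2000 := by decide +kernel

theorem finals24 : data.finalsOK finalList24 48000 = true := by decide +kernel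

theorem flen24 : finalList24.length = 2000 := by decide +kernel

theorem finals27 : data.finalsOK finalList27 54000 = true := by decide +kernel

theorem flen27 : finalList27.length = 2000 := by decide +kernel

theorem finals30 : data.finalsOK finalList30 60000 = true := by decide +kernel

theorem flen30 : finalList30.length = 2000 := by decide +kernel

theorem finals33 : data.finalsOK finalList33 66000 = true := by decide +kernel

theorem flen33 : finalList33.length = 2000 := by decide +kernel

theorem finals36 : data.finalsOK finalList36 72000 = true := by decide +kernel

theorem flen36 : finalList36.length = 2000 := by decide +kernel

theorem finals39 : data.finalsOK finalList39 78000 = true := by decide +kernel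

theorem flen39 : finalList39.length = 2000 := by decide +kernel

theorem finals42 : data.finalsOK finalList42 84000 = true := by decide +kernel

theorem flen42 : finalList42.length = 2000 := by decide +kernel

theorem finals45 : data.finalsOK finalList45 90000 = true := by decide +kernel

theorem flen45 : finalList45.length = 2000 := by decide +kernel

theorem finals48 : data.finalsOK finalList48 96000 = true := by decide +kernel

theorem flen48 : finalList48.length = 2000 := by decide +kernel

theorem finals51 : data.finalsOK finalList51 102000 = true := by decide +kernel

theorem flen51 : finalList51.length = 2000 := by decide +kernel

theorem finals54 : data.finalsOK finalList54 108000 = true := by decide +kernel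

theorem flen54 : finalList54.length = 2000 := by decide +kernel

theorem finals57 : data.finalsOK finalList57 114000 = true := by decide +kernel

theorem flen57 : finalList57.length = 2000 := by decide +kernel

theorem finals60 : data.finalsOK finalList60 120000 = true := by decide +kernel

theorem flen60 : finalList60.length = 2000 := by decide +kernel

theorem finals63 : data.finalsOK finalList63 126000 = true := by decide +kernel

theorem flen63 : finalList63.length = 720 := by decide +kernel

theorem defs_ok : forallFrom data.defOK 0 18855 = true := by decide +kernel

theorem rows0 : forallFrom data.rowOK 0 500 = true := by decide +kernel

theorem rows3 : forallFrom data.rowOK 1500 500 = true := by decide +kernel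

theorem rows6 : forallFrom data.rowOK 3000 500 = true := by decide +kernel

theorem rows9 : forallFrom data.rowOK 4500 500 = true := by decide +kernel

theorem rows12 : forallFrom data.rowOK 6000 500 = true := by decide +kernel

theorem rows15 : forallFrom data.rowOK 7500 500 = true := by decide +kernel

theorem rows18 : forallFrom data.rowOK 9000 500 = true := by decide +kernel

theorem rows21 : forallFrom data.rowOK 10500 500 = true := by decide +kernel

theorem rows24 : forallFrom data.rowOK 12000 500 = true := by decide +kernel

theorem rows27 : forallFrom data.rowOK 13500 500 = true := by decide +kernel

end CfsgLib.ThreeTrans.CosetIndex.Fi14080
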