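import Cfsg.Agent.Lib.ThreeTrans.CosetIndex.Fi14080.Data
import Cfsg.Agent.Lib.ThreeTrans.CosetIndex.Fi14080.Proofs

set_option autoImplicit false
set_option maxRecDepth 20000
set_option Elab.async false

/-!
Checks of the enumeration, part B (split from `Valid` so that the parts build side by side).
-/

namespace CfsgLib.ThreeTrans.CosetIndex.Fi14080

theorem steps1 : stepsOK data.facts data.rels data.subs stepList1 19855 = true := by decide +kernel

theorem len1 : stepList1.length = 1000 := by decide +kernel

theorem steps4 : stepsOK data.facts data.rels data.subs stepList4 22855 = true := by decide +kernel

theorem len4 : stepList4.length = 1000 := by decide +kernel

theorem steps7 : stepsOK data.facts data.rels data.subs stepList7 25855 = true := by decide +kernel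

theorem len7 : stepList7.length = 1000 := by decide +kernel

theorem steps10 : stepsOK data.facts data.rels data.subs stepList10 28855 = true := by decide +kernel

theorem len10 : stepList10.length = 1000 := by decide +kernel

theorem steps13 : stepsOK data.facts data.rels data.subs stepList13 31855 = true := by decide +kernel

theorem len13 : stepList13.length = 1000 := by decide +kernel

theorem steps16 : stepsOK data.facts data.rels data.subs stepList16 34855 = true := by decide +kernel

theorem len16 : stepList16.length = 1000 := by decide +kernel

theorem steps19 : stepsOK data.facts data.rels data.subs stepList19 37855 = true := by decide +kernel

theorem len19 : stepList19.length = 1000 := by decide +kernel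

theorem steps22 : stepsOK data.facts data.rels data.subs stepList22 40855 = true := by decide +kernel

theorem len22 : stepList22.length = 1000 := by decide +kernel

theorem steps25 : stepsOK data.facts data.rels data.subs stepList25 43855 = true := by decide +kernel

theorem len25 : stepList25.length = 1000 := by decide +kernel

theorem steps28 : stepsOK data.facts data.rels data.subs stepList28 46855 = true := by decide +kernel

theorem len28 : stepList28.length = 1000 := by decide +kernel

theorem steps31 : stepsOK data.facts data.rels data.subs stepList31 49855 = true := by decide +kernel

theorem len31 : stepList31.length = 1000 := by decide +kernel

theorem steps34 : stepsOK data.facts data.rels data.subs stepList34 52855 = true := by decide +kernel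

theorem len34 : stepList34.length = 1000 := by decide +kernel

theorem steps37 : stepsOK data.facts data.rels data.subs stepList37 55855 = true := by decide +kernel

theorem len37 : stepList37.length = 1000 := by decide +kernel

theorem steps40 : stepsOK data.facts data.rels data.subs stepList40 58855 = true := by decide +kernel

theorem len40 : stepList40.length = 1000 := by decide +kernel

theorem steps43 : stepsOK data.facts data.rels data.subs stepList43 61855 = true := by decide +kernel

theorem len43 : stepList43.length = 1000 := by decide +kernel

theorem steps46 : stepsOK data.facts data.rels data.subs stepList46 64855 = true := by decide +kernel

theorem len46 : stepList46.length = 1000 := by decide +kernel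

theorem steps49 : stepsOK data.facts data.rels data.subs stepList49 67855 = true := by decide +kernel

theorem len49 : stepList49.length = 1000 := by decide +kernel

theorem steps52 : stepsOK data.facts data.rels data.subs stepList52 70855 = true := by decide +kernel

theorem len52 : stepList52.length = 1000 := by decide +kernel

theorem steps55 : stepsOK data.facts data.rels data.subs stepList55 73855 = true := by decide +kernel

theorem len55 : stepList55.length = 1000 := by decide +kernel

theorem steps58 : stepsOK data.facts data.rels data.subs stepList58 76855 = true := by decide +kernel

theorem len58 : stepList58.length = 1000 := by decide +kernel

theorem steps61 : stepsOK data.facts data.rels data.subs stepList61 79855 = true := by decide +kernel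

theorem len61 : stepList61.length = 1000 := by decide +kernel

theorem steps64 : stepsOK data.facts data.rels data.subs stepList64 82855 = true := by decide +kernel

theorem len64 : stepList64.length = 286 := by decide +kernel

theorem finals1 : data.finalsOK finalList1 2000 = true := by decide +kernel

theorem flen1 : finalList1.length = 2000 := by decide +kernel

theorem finals4 : data.finalsOK finalList4 8000 = true := by decide +kernel

theorem flen4 : finalList4.length = 2000 := by decide +kernel

theorem finals7 : data.finalsOK finalList7 14000 = true := by decide +kernel

theorem flen7 : finalList7.length = 2000 := by decide +kernel

theorem finals10 : data.finalsOK finalList10 20000 = true := by decide +kernel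

theorem flen10 : finalList10.length = 2000 := by decide +kernel

theorem finals13 : data.finalsOK finalList13 26000 = true := by decide +kernel

theorem flen13 : finalList13.length = 2000 := by decide +kernel

theorem finals16 : data.finalsOK finalList16 32000 = true := by decide +kernel

theorem flen16 : finalList16.length = 2000 := by decide +kernel

theorem finals19 : data.finalsOK finalList19 38000 = true := by decide +kernel

theorem flen19 : finalList19.length = 2000 := by decide +kernel

theorem finals22 : data.finalsOK finalList22 44000 = true := by decide +kernel

theorem flen22 : finalList22.length = 2000 := by decide +kernel

theorem finals25 : data.finalsOK finalList25 50000 = true := by decide +kernel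

theorem flen25 : finalList25.length = 2000 := by decide +kernel

theorem finals28 : data.finalsOK finalList28 56000 = true := by decide +kernel

theorem flen28 : finalList28.length = 2000 := by decide +kernel

theorem finals31 : data.finalsOK finalList31 62000 = true := by decide +kernel

theorem flen31 : finalList31.length = 2000 := by decide +kernel

theorem finals34 : data.finalsOK finalList34 68000 = true := by decide +kernel

theorem flen34 : finalList34.length = 2000 := by decide +kernel

theorem finals37 : data.finalsOK finalList37 74000 = true := by decide +kernel

theorem flen37 : finalList37.length = 2000 := by decide +kernel

theorem finals40 : data.finalsOK finalList40 80000 = true := by decide +kernel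

theorem flen40 : finalList40.length = 2000 := by decide +kernel

theorem finals43 : data.finalsOK finalList43 86000 = true := by decide +kernel

theorem flen43 : finalList43.length = 2000 := by decide +kernel

theorem finals46 : data.finalsOK finalList46 92000 = true := by decide +kernel

theorem flen46 : finalList46.length = 2000 := by decide +kernel

theorem finals49 : data.finalsOK finalList49 98000 = true := by decide +kernel

theorem flen49 : finalList49.length = 2000 := by decide +kernel

theorem finals52 : data.finalsOK finalList52 104000 = true := by decide +kernel

theorem flen52 : finalList52.length = 2000 := by decide +kernel

theorem finals55 : data.finalsOK finalList55 110000 = true := by decide +kernel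

theorem flen55 : finalList55.length = 2000 := by decide +kernel

theorem finals58 : data.finalsOK finalList58 116000 = true := by decide +kernel

theorem flen58 : finalList58.length = 2000 := by decide +kernel

theorem finals61 : data.finalsOK finalList61 122000 = true := by decide +kernel

theorem flen61 : finalList61.length = 2000 := by decide +kernel

theorem rows1 : forallFrom data.rowOK 500 500 = true := by decide +kernel

theorem rows4 : forallFrom data.rowOK 2000 500 = true := by decide +kernel

theorem rows7 : forallFrom data.rowOK 3500 500 = true := by decide +kernel

theorem rows10 : forallFrom data.rowOK 5000 500 = true := by decide +kernel

theorem rows13 : forallFrom data.rowOK 6500 500 = true := by decide +kernel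

theorem rows16 : forallFrom data.rowOK 8000 500 = true := by decide +kernel

theorem rows19 : forallFrom data.rowOK 9500 500 = true := by decide +kernel

theorem rows22 : forallFrom data.rowOK 11000 500 = true := by decide +kernel

theorem rows25 : forallFrom data.rowOK 12500 500 = true := by decide +kernel

theorem rows28 : forallFrom data.rowOK 14000 80 = true := by decide +kernel

end CfsgLib.ThreeTrans.CosetIndex.Fi14080
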