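import Cfsg.Agent.Lib.ThreeTrans.CosetIndex.Fi14080.Data
import Cfsg.Agent.Lib.ThreeTrans.CosetIndex.Fi14080.Proofs

set_option autoImplicit false
set_option maxRecDepth 20000
set_option Elab.async false

/-!
Checks of the enumeration, part C (split from `Valid` so that the parts build side by side).
-/

namespace CfsgLib.ThreeTrans.CosetIndex.Fi14080

theorem steps2 : stepsOK data.facts data.rels data.subs stepList2 20855 = true := by decide +kernel

theorem len2 : stepList2.length = 1000 := by decide +kernel

theorem steps5 : stepsOK data.facts data.rels data.subs stepList5 23855 = true := by decide +kernel

theorem len5 : stepList5.length = 1000 := by decide +kernel

theorem steps8 : stepsOK data.facts data.rels data.subs stepList8 26855 = true := by decide +kernel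

theorem len8 : stepList8.length = 1000 := by decide +kernel

theorem steps11 : stepsOK data.facts data.rels data.subs stepList11 29855 = true := by decide +kernel

theorem len11 : stepList11.length = 1000 := by decide +kernel

theorem steps14 : stepsOK data.facts data.rels data.subs stepList14 32855 = true := by decide +kernel

theorem len14 : stepList14.length = 1000 := by decide +kernel

theorem steps17 : stepsOK data.facts data.rels data.subs stepList17 35855 = true := by decide +kernel

theorem len17 : stepList17.length = 1000 := by decide +kernel

theorem steps20 : stepsOK data.facts data.rels data.subs stepList20 38855 = true := by decide +kernel

theorem len20 : stepList20.length = 1000 := by decide +kernel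

theorem steps23 : stepsOK data.facts data.rels data.subs stepList23 41855 = true := by decide +kernel

theorem len23 : stepList23.length = 1000 := by decide +kernel

theorem steps26 : stepsOK data.facts data.rels data.subs stepList26 44855 = true := by decide +kernel

theorem len26 : stepList26.length = 1000 := by decide +kernel

theorem steps29 : stepsOK data.facts data.rels data.subs stepList29 47855 = true := by decide +kernel

theorem len29 : stepList29.length = 1000 := by decide +kernel

theorem steps32 : stepsOK data.facts data.rels data.subs stepList32 50855 = true := by decide +kernel

theorem len32 : stepList32.length = 1000 := by decide +kernel

theorem steps35 : stepsOK data.facts data.rels data.subs stepList35 53855 = true := by decide +kernel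

theorem len35 : stepList35.length = 1000 := by decide +kernel

theorem steps38 : stepsOK data.facts data.rels data.subs stepList38 56855 = true := by decide +kernel

theorem len38 : stepList38.length = 1000 := by decide +kernel

theorem steps41 : stepsOK data.facts data.rels data.subs stepList41 59855 = true := by decide +kernel

theorem len41 : stepList41.length = 1000 := by decide +kernel

theorem steps44 : stepsOK data.facts data.rels data.subs stepList44 62855 = true := by decide +kernel

theorem len44 : stepList44.length = 1000 := by decide +kernel

theorem steps47 : stepsOK data.facts data.rels data.subs stepList47 65855 = true := by decide +kernel

theorem len47 : stepList47.length = 1000 := by decide +kernel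

theorem steps50 : stepsOK data.facts data.rels data.subs stepList50 68855 = true := by decide +kernel

theorem len50 : stepList50.length = 1000 := by decide +kernel

theorem steps53 : stepsOK data.facts data.rels data.subs stepList53 71855 = true := by decide +kernel

theorem len53 : stepList53.length = 1000 := by decide +kernel

theorem steps56 : stepsOK data.facts data.rels data.subs stepList56 74855 = true := by decide +kernel

theorem len56 : stepList56.length = 1000 := by decide +kernel

theorem steps59 : stepsOK data.facts data.rels data.subs stepList59 77855 = true := by decide +kernel

theorem len59 : stepList59.length = 1000 := by decide +kernel

theorem steps62 : stepsOK data.facts data.rels data.subs stepList62 80855 = true := by decide +kernel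

theorem len62 : stepList62.length = 1000 := by decide +kernel

theorem finals2 : data.finalsOK finalList2 4000 = true := by decide +kernel

theorem flen2 : finalList2.length = 2000 := by decide +kernel

theorem finals5 : data.finalsOK finalList5 10000 = true := by decide +kernel

theorem flen5 : finalList5.length = 2000 := by decide +kernel

theorem finals8 : data.finalsOK finalList8 16000 = true := by decide +kernel

theorem flen8 : finalList8.length = 2000 := by decide +kernel

theorem finals11 : data.finalsOK finalList11 22000 = true := by decide +kernel

theorem flen11 : finalList11.length = 2000 := by decide +kernel

theorem finals14 : data.finalsOK finalList14 28000 = true := by decide +kernel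

theorem flen14 : finalList14.length = 2000 := by decide +kernel

theorem finals17 : data.finalsOK finalList17 34000 = true := by decide +kernel

theorem flen17 : finalList17.length = 2000 := by decide +kernel

theorem finals20 : data.finalsOK finalList20 40000 = true := by decide +kernel

theorem flen20 : finalList20.length = 2000 := by decide +kernel

theorem finals23 : data.finalsOK finalList23 46000 = true := by decide +kernel

theorem flen23 : finalList23.length = 2000 := by decide +kernel

theorem finals26 : data.finalsOK finalList26 52000 = true := by decide +kernel

theorem flen26 : finalList26.length = 2000 := by decide +kernel

theorem finals29 : data.finalsOK finalList29 58000 = true := by decide +kernel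

theorem flen29 : finalList29.length = 2000 := by decide +kernel

theorem finals32 : data.finalsOK finalList32 64000 = true := by decide +kernel

theorem flen32 : finalList32.length = 2000 := by decide +kernel

theorem finals35 : data.finalsOK finalList35 70000 = true := by decide +kernel

theorem flen35 : finalList35.length = 2000 := by decide +kernel

theorem finals38 : data.finalsOK finalList38 76000 = true := by decide +kernel

theorem flen38 : finalList38.length = 2000 := by decide +kernel

theorem finals41 : data.finalsOK finalList41 82000 = true := by decide +kernel

theorem flen41 : finalList41.length = 2000 := by decide +kernel

theorem finals44 : data.finalsOK finalList44 88000 = true := by decide +kernel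

theorem flen44 : finalList44.length = 2000 := by decide +kernel

theorem finals47 : data.finalsOK finalList47 94000 = true := by decide +kernel

theorem flen47 : finalList47.length = 2000 := by decide +kernel

theorem finals50 : data.finalsOK finalList50 100000 = true := by decide +kernel

theorem flen50 : finalList50.length = 2000 := by decide +kernel

theorem finals53 : data.finalsOK finalList53 106000 = true := by decide +kernel

theorem flen53 : finalList53.length = 2000 := by decide +kernel

theorem finals56 : data.finalsOK finalList56 112000 = true := by decide +kernel

theorem flen56 : finalList56.length = 2000 := by decide +kernel

theorem finals59 : data.finalsOK finalList59 118000 = true := by decide +kernel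

theorem flen59 : finalList59.length = 2000 := by decide +kernel

theorem finals62 : data.finalsOK finalList62 124000 = true := by decide +kernel

theorem flen62 : finalList62.length = 2000 := by decide +kernel

theorem rows2 : forallFrom data.rowOK 1000 500 = true := by decide +kernel

theorem rows5 : forallFrom data.rowOK 2500 500 = true := by decide +kernel

theorem rows8 : forallFrom data.rowOK 4000 500 = true := by decide +kernel

theorem rows11 : forallFrom data.rowOK 5500 500 = true := by decide +kernel

theorem rows14 : forallFrom data.rowOK 7000 500 = true := by decide +kernel

theorem rows17 : forallFrom data.rowOK 8500 500 = true := by decide +kernel

theorem rows20 : forallFrom data.rowOK 10000 500 = true := by decide +kernel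

theorem rows23 : forallFrom data.rowOK 11500 500 = true := by decide +kernel

theorem rows26 : forallFrom data.rowOK 13000 500 = true := by decide +kernel

end CfsgLib.ThreeTrans.CosetIndex.Fi14080
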